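import Groth.Agent.L05.Hensel.IntegralDomain
import Groth.Agent.L03.Akizuki
import Mathlib.RingTheory.DedekindDomain.IntegralClosure
import Mathlib.RingTheory.DedekindDomain.Dvr
import Mathlib.RingTheory.Ideal.KrullsHeightTheorem
import Mathlib.RingTheory.DiscreteValuationRing.Basic
import Mathlib.FieldTheory.IsAlgClosed.Basic
import Mathlib.RingTheory.Nakayama
import Mathlib.RingTheory.Algebraic.Integral
import Mathlib.FieldTheory.IsSepClosed

/-!
# The ramification bound: finite extensions of `Frac V` inside the fraction field of a Noetherian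
domain over `V` in which the uniformizer is not a unit have bounded degree
-/

set_option autoImplicit false
universe u

open IsLocalRing Polynomial

namespace Groth.L05.Milnor

variable {V : Type u} [CommRing V] [IsDomain V] [IsDiscreteValuationRing V] [HenselianLocalRing V]
  [IsSepClosed (ResidueField V)] [PerfectField (ResidueField V)] [CharZero V]
  {K : Type u} [Field K] [Algebra V K] [IsFractionRing V K]

theorem exists_bound {R : Type u} [CommRing R] [IsDomain R] [IsNoetherianRing R] [Algebra V R]
    (hinj : Function.Injective (algebraMap V R)) {π : V} (hπ : Irreducible π)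
    (hπu : ¬ IsUnit (algebraMap V R π))
    (E : Type u) [Field E] [Algebra R E] [IsFractionRing R E] [Algebra V E] [IsScalarTower V R E]
    [Algebra K E] [IsScalarTower V K E] :
    ∃ n : ℕ, ∀ F : IntermediateField K E, FiniteDimensional K F → Module.finrank K F ≤ n := by
  classical
  obtain ⟨M, hM, hπM⟩ := Ideal.exists_le_maximal (Ideal.span {algebraMap V R π}) (by
      rwa [ne_eq, Ideal.span_singleton_eq_top])
  haveI := hM
  obtain ⟨p, hp, -⟩ := Ideal.exists_minimalPrimes_le hπM
  haveI := hp.1.1
  let R0 := Localization.AtPrime p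
  have hle : p.primeCompl ≤ nonZeroDivisors R :=
    le_nonZeroDivisors_of_noZeroDivisors fun h => h p.zero_mem
  haveI : IsDomain R0 := IsLocalization.isDomain_of_le_nonZeroDivisors (S := R0) hle
  haveI : Ring.KrullDimLE 1 R0 := by
    rw [Ring.krullDimLE_iff, IsLocalization.AtPrime.ringKrullDim_eq_height p R0]
    exact_mod_cast Ideal.height_le_one_of_isPrincipal_of_mem_minimalPrimes _ p hp
  letI : Algebra R0 E := (IsLocalization.lift (M := p.primeCompl) (g := algebraMap R E) fun s =>
    isUnit_iff_ne_zero.mpr ((map_ne_zero_iff _ (IsFractionRing.injective R E)).mpr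
      (nonZeroDivisors.ne_zero (hle s.2)))).toAlgebra
  haveI : IsScalarTower R R0 E :=
    IsScalarTower.of_algebraMap_eq fun x => (IsLocalization.lift_eq _ x).symm
  haveI : IsFractionRing R0 E :=
    IsFractionRing.isFractionRing_of_isDomain_of_isLocalization p.primeCompl R0 E
  haveI : IsScalarTower V R0 E := IsScalarTower.of_algebraMap_eq fun v => by
    rw [IsScalarTower.algebraMap_apply V R R0, ← IsScalarTower.algebraMap_apply R R0 E,
      ← IsScalarTower.algebraMap_apply V R E]
  let π0 : R0 := algebraMap V R0 π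
  have hinjE : Function.Injective (algebraMap V E) := by
    rw [IsScalarTower.algebraMap_eq V R E]; exact (IsFractionRing.injective R E).comp hinj
  have hπ0 : π0 ≠ 0 := fun h => hπ.ne_zero (hinjE (by
    rw [map_zero, IsScalarTower.algebraMap_apply V R0 E]
    show algebraMap R0 E π0 = 0
    rw [h, map_zero]))
  have hπ0u : ¬ IsUnit π0 := by
    show ¬ IsUnit (algebraMap V R0 π)
    rw [IsScalarTower.algebraMap_apply V R R0, IsLocalization.AtPrime.isUnit_to_map_iff R0 p]
    exact fun h => h (hp.1.2 (Ideal.mem_span_singleton_self _))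
  have htop : Ring.ord R0 π0 ≠ ⊤ := Ring.ord_ne_top (mem_nonZeroDivisors_of_ne_zero hπ0)
  obtain ⟨n, hn⟩ := ENat.ne_top_iff_exists.mp htop
  refine ⟨n, fun F hF => ?_⟩
  haveI := hF
  haveI : CharZero K := charZero_of_injective_algebraMap (IsFractionRing.injective V K)
  let W := integralClosure V F
  haveI : Module.Finite V W := IsIntegralClosure.finite V K F W
  haveI : IsFractionRing W F := integralClosure.isFractionRing_of_finite_extension K F
  haveI : IsDedekindDomain W := integralClosure.isDedekindDomain V K F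
  haveI : IsLocalRing W := Groth.L05.isLocalRing_of_integral_domain (A := V) W
  haveI : IsLocalHom (algebraMap V W) := by
    refine ((IsLocalRing.local_hom_TFAE _).out 0 4 rfl rfl).mpr ?_
    exact eq_maximalIdeal (Ideal.isMaximal_comap_of_isIntegral_of_isMaximal (maximalIdeal W))
  have hinjW : Function.Injective (algebraMap V W) := fun a b h => by
    have h' : algebraMap F E (algebraMap V F a) = algebraMap F E (algebraMap V F b) :=
      congrArg (fun w : W => algebraMap F E (w : F)) h
    rw [IsScalarTower.algebraMap_apply V K F, IsScalarTower.algebraMap_apply V K F,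
      ← IsScalarTower.algebraMap_apply K F E, ← IsScalarTower.algebraMap_apply K F E,
      ← IsScalarTower.algebraMap_apply V K E, ← IsScalarTower.algebraMap_apply V K E] at h'
    exact hinjE h'
  have hnf : ¬ IsField W := fun h => by
    have hu : IsUnit (algebraMap V W π) := by
      obtain ⟨b, hb⟩ := h.mul_inv_cancel (fun h0 => hπ.ne_zero (hinjW (h0.trans (map_zero _).symm)))
      exact IsUnit.of_mul_eq_one _ hb
    exact hπ.not_isUnit (IsLocalHom.map_nonunit π hu)
  haveI : IsDiscreteValuationRing W :=
    ((IsDiscreteValuationRing.TFAE W hnf).out 0 2 rfl rfl).mpr inferInstance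
  obtain ⟨ϖ, hϖ⟩ := IsDiscreteValuationRing.exists_irreducible W
  obtain ⟨e, u, hu⟩ := IsDiscreteValuationRing.eq_unit_mul_pow_irreducible
    (fun h0 => hπ.ne_zero (hinjW (h0.trans (map_zero _).symm)) : algebraMap V W π ≠ 0) hϖ
  -- residue extension is trivial
  haveI : IsAlgClosed (ResidueField V) := inferInstance
  have hres : ∀ y : W, ∃ a : V, ∃ z : W, y = algebraMap V W a + ϖ * z := by
    intro y
    haveI : IsScalarTower V (ResidueField V) (ResidueField W) :=
      IsScalarTower.of_algebraMap_eq fun r => (ResidueField.map_residue _ r).symm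
    haveI : Algebra.IsIntegral V (ResidueField W) := ⟨fun z => by
      obtain ⟨a, rfl⟩ := residue_surjective z
      exact (Algebra.IsIntegral.isIntegral (R := V) a).algebraMap⟩
    haveI : Algebra.IsIntegral (ResidueField V) (ResidueField W) := Algebra.IsIntegral.tower_top (R := V)
    obtain ⟨a', ha'⟩ := (IsAlgClosed.algebraMap_bijective_of_isIntegral
      (k := ResidueField V) (K := ResidueField W)).2 (residue W y)
    obtain ⟨a, rfl⟩ := residue_surjective a'
    have hm : y - algebraMap V W a ∈ maximalIdeal W := by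
      rw [← residue_eq_zero_iff, map_sub, sub_eq_zero, ← ha']
      exact ResidueField.map_residue _ a
    rw [hϖ.maximalIdeal_eq, Ideal.mem_span_singleton'] at hm
    obtain ⟨z, hz⟩ := hm
    exact ⟨a, z, by rw [mul_comm ϖ z, hz]; ring⟩
  -- `W` is generated by the first `e` powers of `ϖ`
  let b : Fin e → W := fun i => ϖ ^ (i : ℕ)
  have hexp : ∀ i ≤ e, ∀ y : W, ∃ z : W, y - ϖ ^ i * z ∈ Submodule.span V (Set.range b) := by
    intro i hi
    induction i with
    | zero => exact fun y => ⟨y, by simp⟩
    | succ i ih =>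
      intro y
      obtain ⟨z, hz⟩ := ih (Nat.le_of_succ_le hi) y
      obtain ⟨a, z', rfl⟩ := hres z
      refine ⟨z', ?_⟩
      have heq : y - ϖ ^ (i + 1) * z' = (y - ϖ ^ i * (algebraMap V W a + ϖ * z')) + a • b ⟨i, hi⟩ := by
        rw [Algebra.smul_def]; show _ = _ + algebraMap V W a * ϖ ^ i; ring
      rw [heq]
      exact add_mem hz (Submodule.smul_mem _ _ (Submodule.subset_span ⟨⟨i, hi⟩, rfl⟩))
  have hspan : Submodule.span V (Set.range b) = ⊤ := by
    refine top_le_iff.mp (Submodule.le_of_le_smul_of_le_jacobson_bot (I := maximalIdeal V)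
      Module.Finite.fg_top (IsLocalRing.maximalIdeal_le_jacobson _) ?_)
    intro y _
    obtain ⟨z, hz⟩ := hexp e le_rfl y
    have hmem : ϖ ^ e * z ∈ maximalIdeal V • (⊤ : Submodule V W) := by
      have h1 : ϖ ^ e * z = π • (((u⁻¹ : Wˣ) : W) * z) := by
        rw [Algebra.smul_def, hu, mul_comm (u : W) (ϖ ^ e), mul_assoc, Units.mul_inv_cancel_left]
      rw [h1]
      exact Submodule.smul_mem_smul hπ.not_isUnit Submodule.mem_top
    rw [show y = (y - ϖ ^ e * z) + ϖ ^ e * z by ring]
    exact add_mem (Submodule.mem_sup_left hz) (Submodule.mem_sup_right hmem)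
  have hdim : Module.finrank K F ≤ e := by
    let bF : Fin e → F := fun i => algebraMap W F (b i)
    have htop : Submodule.span K (Set.range bF) = ⊤ := by
      rw [eq_top_iff]
      intro x _
      obtain ⟨r, hr, hx⟩ := (IsFractionRing.isAlgebraic_iff V K F).mpr
        (Algebra.IsAlgebraic.isAlgebraic x) |>.exists_integral_multiple
      let w : W := ⟨r • x, hx⟩
      have hw : w ∈ Submodule.span V (Set.range b) := hspan.symm ▸ Submodule.mem_top
      have hw' : algebraMap W F w ∈ Submodule.span K (Set.range bF) := by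
        refine Submodule.span_induction ?_ ?_ ?_ ?_ hw
        · rintro _ ⟨i, rfl⟩; exact Submodule.subset_span ⟨i, rfl⟩
        · rw [map_zero]; exact zero_mem _
        · intro a c _ _ ha hc; rw [map_add]; exact add_mem ha hc
        · intro a c _ hc
          rw [Algebra.algebraMap_eq_smul_one, smul_assoc, ← Algebra.algebraMap_eq_smul_one,
            ← algebraMap_smul K a]
          exact Submodule.smul_mem _ _ hc
      have hrK : algebraMap V K r ≠ 0 := (map_ne_zero_iff _ (IsFractionRing.injective V K)).mpr hr
      have hx_eq : x = (algebraMap V K r)⁻¹ • (r • x) := by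
        rw [← algebraMap_smul K r x, smul_smul, inv_mul_cancel₀ hrK, one_smul]
      rw [hx_eq]
      exact Submodule.smul_mem _ _ hw'
    have h1 := finrank_range_le_card (R := K) bF
    rw [Set.finrank, htop, finrank_top, Fintype.card_fin] at h1
    exact h1
  refine hdim.trans ?_
  -- the chain `ϖ ^ i`
  let ι : W →+* E := (algebraMap F E).comp (algebraMap W F)
  have hιV : ∀ v, ι (algebraMap V W v) = algebraMap V E v := fun v => by
    show algebraMap F E (algebraMap W F (algebraMap V W v)) = _
    rw [← IsScalarTower.algebraMap_apply V W F]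
    rw [IsScalarTower.algebraMap_apply V K F, ← IsScalarTower.algebraMap_apply K F E,
      ← IsScalarTower.algebraMap_apply V K E]
  have hιint : ∀ w, IsIntegral R0 (ι w) := fun w => by
    let ι' : W →ₐ[V] E := ⟨ι, hιV⟩
    exact ((Algebra.IsIntegral.isIntegral (R := V) w).map ι').tower_top
  let S := Algebra.adjoin R0 (Set.range ι)
  haveI : Algebra.IsIntegral R0 S :=
    Algebra.IsIntegral.adjoin (by rintro _ ⟨w, rfl⟩; exact hιint w)
  let ιS : W →+* S := ι.codRestrict S fun w => Algebra.subset_adjoin ⟨w, rfl⟩
  let t : S := ιS ϖ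
  have hιπ : ιS (algebraMap V W π) = algebraMap R0 S π0 := Subtype.ext (by
    show ι _ = algebraMap R0 E π0
    rw [hιV]; exact IsScalarTower.algebraMap_apply V R0 E π)
  have hπS : algebraMap R0 S π0 = ιS (u : W) * t ^ e := by
    rw [← hιπ, hu, map_mul, map_pow]
  have hπSu : ¬ IsUnit (algebraMap R0 S π0) := fun h => by
    haveI : FaithfulSMul R0 S := (faithfulSMul_iff_algebraMap_injective R0 S).mpr fun a c hac =>
      IsFractionRing.injective R0 E (congrArg Subtype.val hac)
    haveI : IsLocalHom (algebraMap R0 S) :=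
      RingHom.IsIntegral.isLocalHom (fun x => Algebra.IsIntegral.isIntegral (R := R0) x)
        (FaithfulSMul.algebraMap_injective R0 S)
    exact hπ0u (IsLocalHom.map_nonunit π0 h)
  have htu : ¬ IsUnit t := fun h => hπSu (hπS ▸ ((u.isUnit.map ιS).mul (h.pow e)))
  have ht0 : t ≠ 0 := fun h => by
    have : (t : E) = 0 := congrArg Subtype.val h
    have h2 : algebraMap F E (algebraMap W F ϖ) = 0 := this
    rw [map_eq_zero_iff _ (algebraMap F E).injective, map_eq_zero_iff _ (IsFractionRing.injective W F)] at h2
    exact hϖ.ne_zero h2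
  let ψ : S →ₗ[R0] E := S.val.toLinearMap
  have hlen := Groth.L03.Akizuki.length_le (R := R0) (K := E) (V := E) ψ Subtype.val_injective hπ0
  rw [Module.finrank_self, Nat.cast_one, one_mul, ← hn] at hlen
  let M := S ⧸ Groth.L03.Akizuki.xSub π0 S
  let N : ℕ → Submodule R0 S := fun i => (Ideal.span {t ^ i} : Ideal S).restrictScalars R0
  have hNx : ∀ i ≤ e, Groth.L03.Akizuki.xSub π0 S ≤ N i := by
    rintro i hi _ ⟨y, rfl⟩
    show π0 • y ∈ Ideal.span {t ^ i}
    rw [Algebra.smul_def, hπS, Ideal.mem_span_singleton]
    exact ((pow_dvd_pow t hi).mul_left _).mul_right _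
  have hlt : ∀ i : Fin e, (N (i.1 + 1)).map (Groth.L03.Akizuki.xSub π0 S).mkQ <
      (N i.1).map (Groth.L03.Akizuki.xSub π0 S).mkQ := by
    intro i
    refine lt_of_le_not_ge (Submodule.map_mono fun y hy => ?_) fun hge => ?_
    · exact Ideal.span_singleton_le_span_singleton.mpr (pow_dvd_pow t (Nat.le_succ _)) hy
    · obtain ⟨y, hy, hyx⟩ := hge ⟨t ^ i.1, Ideal.mem_span_singleton_self _, rfl⟩
      have hsub := hNx (i.1 + 1) i.2 ((Submodule.Quotient.eq _).mp hyx)
      have hmem : t ^ i.1 ∈ Ideal.span {t ^ (i.1 + 1)} := by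
        have h3 : y - (y - t ^ i.1) ∈ Ideal.span {t ^ (i.1 + 1)} := sub_mem hy hsub
        simpa using h3
      rw [Ideal.mem_span_singleton, pow_succ] at hmem
      obtain ⟨c, hc⟩ := hmem
      rw [mul_assoc] at hc
      exact htu (IsUnit.of_mul_eq_one c (mul_left_cancel₀ (pow_ne_zero _ ht0) (hc.symm.trans (mul_one _).symm)))
  let s : LTSeries (Submodule R0 M) :=
    ⟨e, fun i => (N (e - i.1)).map (Groth.L03.Akizuki.xSub π0 S).mkQ, fun i => by
      have h := hlt ⟨e - (i.1 + 1), by omega⟩
      have he : e - (i.1 + 1) + 1 = e - i.1 := by omega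
      simp only [he] at h
      exact h⟩
  have h1 : (e : ℕ∞) ≤ Module.length R0 M := by
    rw [← WithBot.coe_le_coe, Module.coe_length]
    exact Order.LTSeries.length_le_krullDim s
  exact_mod_cast h1.trans hlen

end Groth.L05.Milnor
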