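import Mathlib.RingTheory.Polynomial.GaussLemma
import Mathlib.RingTheory.TensorProduct.Basic
import Mathlib.RingTheory.AdjoinRoot
import Mathlib.FieldTheory.PrimitiveElement
import Mathlib.RingTheory.Ideal.Over
import Mathlib.LinearAlgebra.Dimension.FreeAndStrongRankCondition
import Mathlib.RingTheory.LocalRing.ResidueField.Ideal
import Mathlib.RingTheory.Localization.BaseChange

/-!
# Bounded algebraic degree gives finitely many primes in a tensor product of fields
-/

set_option autoImplicit false
universe u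

open Polynomial TensorProduct

namespace Groth.L05.Milnor

variable {K E : Type u} [Field K] [Field E] [Algebra K E]

/-- Each residue field of `E ⊗ K'` has degree at least `[K' : K] / n` over `E`. -/
theorem finrank_le_mul_natDegree (n : ℕ)
    (hn : ∀ F : IntermediateField K E, FiniteDimensional K F → Module.finrank K F ≤ n)
    (K' : Type u) [Field K'] [Algebra K K'] [FiniteDimensional K K'] (θ : K')
    (hθ : Algebra.adjoin K {θ} = ⊤)
    (κ : Type u) [Field κ] [Algebra K κ] [Algebra E κ] [IsScalarTower K E κ] (ι : K' →ₐ[K] κ) :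
    Module.finrank K K' ≤ n * (minpoly E (ι θ)).natDegree := by
  classical
  have hintθ : IsIntegral K θ := Algebra.IsIntegral.isIntegral θ
  set h := minpoly E (ι θ) with hh
  have hκ : IsIntegral E (ι θ) := (hintθ.map ι).tower_top
  have hdvd : h ∣ (minpoly K θ).map (algebraMap K E) :=
    minpoly.dvd E _ (by rw [aeval_map_algebraMap, aeval_algHom_apply, minpoly.aeval, map_zero])
  have hlift := integralClosure.mem_lifts_of_monic_of_dvd_map E (minpoly.monic hintθ) (minpoly.monic hκ) hdvd
  have hcoef : ∀ x ∈ (h.coeffs : Set E), IsIntegral K x := by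
    intro x hx
    obtain ⟨i, -, rfl⟩ := mem_coeffs_iff.mp hx
    obtain ⟨c, hc⟩ := (lifts_iff_coeff_lifts h).mp hlift i
    rw [← hc]; exact c.2
  let F := IntermediateField.adjoin K (h.coeffs : Set E)
  haveI hF : FiniteDimensional K F := IntermediateField.finiteDimensional_adjoin hcoef
  have hlF : h ∈ lifts (algebraMap F E) := by
    rw [lifts_iff_coeff_lifts]
    intro i
    by_cases hi : h.coeff i = 0
    · exact ⟨0, by rw [map_zero, hi]⟩
    · exact ⟨⟨h.coeff i, IntermediateField.subset_adjoin K _ (coeff_mem_coeffs hi)⟩, rfl⟩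
  obtain ⟨h0, hmap, hdeg, hmon⟩ := lifts_and_natDegree_eq_and_monic hlF (minpoly.monic hκ)
  have hroot : aeval (ι θ) h0 = 0 := by
    rw [← aeval_map_algebraMap E, hmap, hh, minpoly.aeval]
  let Φ : AdjoinRoot h0 →ₐ[F] κ :=
    AdjoinRoot.liftAlgHom h0 (Algebra.ofId F κ) (ι θ) (by simpa [aeval_def] using hroot)
  let Φ' : AdjoinRoot h0 →ₐ[K] κ := Φ.restrictScalars K
  have hθmem : ι.range ≤ Φ'.range := by
    rw [← Algebra.map_top ι, ← hθ, AlgHom.map_adjoin, Set.image_singleton, Algebra.adjoin_le_iff,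
      Set.singleton_subset_iff]
    exact ⟨AdjoinRoot.root h0, by
      show Φ (AdjoinRoot.root h0) = ι θ
      simp [Φ]⟩
  haveI : Module.Finite F (AdjoinRoot h0) := hmon.finite_adjoinRoot
  haveI : Module.Finite K (AdjoinRoot h0) := Module.Finite.trans F _
  calc Module.finrank K K' = Module.finrank K (LinearMap.range ι.toLinearMap) :=
        (LinearMap.finrank_range_of_inj ι.injective).symm
    _ ≤ Module.finrank K (LinearMap.range Φ'.toLinearMap) :=
        Submodule.finrank_mono (fun x hx => hθmem hx)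
    _ ≤ Module.finrank K (AdjoinRoot h0) := LinearMap.finrank_range_le _
    _ = Module.finrank K F * Module.finrank F (AdjoinRoot h0) := (Module.finrank_mul_finrank K F _).symm
    _ ≤ n * h.natDegree := by
        rw [← hdeg, ← AdjoinRoot.powerBasis_dim hmon.ne_zero, PowerBasis.finrank (AdjoinRoot.powerBasis hmon.ne_zero)]
        exact Nat.mul_le_mul_right _ (hn F hF)

theorem card_primes_le_of_finite (n : ℕ)
    (hn : ∀ F : IntermediateField K E, FiniteDimensional K F → Module.finrank K F ≤ n)
    (K' : Type u) [Field K'] [Algebra K K'] [FiniteDimensional K K'] [Algebra.IsSeparable K K']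
    (s : Finset (Ideal (E ⊗[K] K'))) (hs : ∀ P ∈ s, P.IsPrime) : s.card ≤ n := by
  classical
  obtain ⟨θ, hθ⟩ := Field.exists_primitive_element K K'
  have hθ' : Algebra.adjoin K {θ} = ⊤ := by
    rw [← IntermediateField.adjoin_simple_toSubalgebra_of_isAlgebraic (Algebra.IsAlgebraic.isAlgebraic θ),
      hθ, IntermediateField.top_toSubalgebra]
  let ev : E[X] →ₐ[E] E ⊗[K] K' := aeval ((1 : E) ⊗ₜ[K] θ)
  have hev : Function.Surjective ev := by
    intro z
    induction z using TensorProduct.induction_on with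
    | zero => exact ⟨0, map_zero _⟩
    | add a b ha hb =>
      obtain ⟨x, rfl⟩ := ha; obtain ⟨y, rfl⟩ := hb; exact ⟨x + y, map_add _ _ _⟩
    | tmul e x =>
      have hx : x ∈ Algebra.adjoin K {θ} := hθ' ▸ Algebra.mem_top
      obtain ⟨p, rfl⟩ := (Algebra.adjoin_singleton_eq_range_aeval K θ ▸ hx : x ∈ (aeval θ).range)
      refine ⟨C e * p.map (algebraMap K E), ?_⟩
      show aeval _ _ = _
      rw [map_mul, aeval_C, aeval_map_algebraMap,
        show (1 : E) ⊗ₜ[K] θ = (Algebra.TensorProduct.includeRight : K' →ₐ[K] E ⊗[K] K') θ from rfl,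
        aeval_algHom_apply, Algebra.TensorProduct.algebraMap_apply]
      show (e ⊗ₜ[K] (1 : K')) * ((1 : E) ⊗ₜ[K] aeval θ p) = _
      rw [Algebra.TensorProduct.tmul_mul_tmul, mul_one, one_mul]
      rfl
  have hP : ∀ P : s, ∃ h : E[X], h.Monic ∧ Irreducible h ∧
      h ∣ (minpoly K θ).map (algebraMap K E) ∧ Module.finrank K K' ≤ n * h.natDegree ∧
      P.1.comap ev = Ideal.span {h} := by
    intro P
    haveI := hs P.1 P.2
    let χ : (E ⊗[K] K') →ₐ[E] P.1.ResidueField := IsScalarTower.toAlgHom E _ _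
    let ι : K' →ₐ[K] P.1.ResidueField :=
      (χ.restrictScalars K).comp Algebra.TensorProduct.includeRight
    have hint : IsIntegral E (ι θ) := ((Algebra.IsIntegral.isIntegral (R := K) θ).map ι).tower_top
    refine ⟨minpoly E (ι θ), minpoly.monic hint, minpoly.irreducible hint, ?_,
      finrank_le_mul_natDegree n hn K' θ hθ' _ ι, ?_⟩
    · exact minpoly.dvd E _ (by rw [aeval_map_algebraMap, aeval_algHom_apply, minpoly.aeval, map_zero])
    · ext p
      rw [Ideal.mem_comap, Ideal.mem_span_singleton, minpoly.dvd_iff,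
        show ι θ = χ ((1 : E) ⊗ₜ[K] θ) from rfl, aeval_algHom_apply]
      exact Ideal.algebraMap_residueField_eq_zero.symm
  choose h hmon hirr hdvd hdeg hcomap using hP
  have hinj : Function.Injective h := fun P P' hPP' => by
    refine Subtype.ext ?_
    rw [← Ideal.map_comap_of_surjective ev hev P.1, ← Ideal.map_comap_of_surjective ev hev P'.1,
      hcomap, hcomap, hPP']
  have hprod : (∏ P : s, h P) ∣ (minpoly K θ).map (algebraMap K E) := by
    refine Fintype.prod_dvd_of_coprime (fun P P' hne => ?_) hdvd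
    refine (hirr P).coprime_iff_not_dvd.mpr fun hd => hne (hinj ?_)
    exact eq_of_monic_of_associated (hmon P) (hmon P') ((hirr P).associated_of_dvd (hirr P') hd)
  have hθint : IsIntegral K θ := Algebra.IsIntegral.isIntegral θ
  have hN : (minpoly K θ).natDegree = Module.finrank K K' :=
    (Field.primitive_element_iff_minpoly_natDegree_eq K θ).mp hθ
  have hle := natDegree_le_of_dvd hprod ((Polynomial.map_ne_zero_iff (algebraMap K E).injective).mpr (minpoly.ne_zero hθint))
  rw [natDegree_map, hN, natDegree_prod _ _ fun P _ => (hmon P).ne_zero] at hle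
  have hsum : (s.card * Module.finrank K K') ≤ n * ∑ P : s, (h P).natDegree := by
    rw [Finset.mul_sum]
    calc s.card * Module.finrank K K' = ∑ _P : s, Module.finrank K K' := by simp
      _ ≤ ∑ P : s, n * (h P).natDegree := Finset.sum_le_sum fun P _ => hdeg P
  exact Nat.le_of_mul_le_mul_right (hsum.trans (Nat.mul_le_mul_left n hle)) Module.finrank_pos

theorem finite_primes_tensor (n : ℕ)
    (hn : ∀ F : IntermediateField K E, FiniteDimensional K F → Module.finrank K F ≤ n)
    (L : Type u) [Field L] [Algebra K L] [Algebra.IsAlgebraic K L] [CharZero K] :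
    {P : Ideal (E ⊗[K] L) | P.IsPrime}.Finite := by
  classical
  by_contra hinf
  obtain ⟨s, hsub, hcard⟩ := Set.Infinite.exists_subset_card_eq hinf (n + 1)
  have hx : ∀ PP : Ideal (E ⊗[K] L) × Ideal (E ⊗[K] L), ∃ x, PP.1 ≠ PP.2 →
      ¬ (x ∈ PP.1 ↔ x ∈ PP.2) := fun PP => by
    by_cases h : PP.1 = PP.2
    · exact ⟨0, fun h' => absurd h h'⟩
    · obtain ⟨x, hx⟩ := not_forall.mp (mt SetLike.ext h)
      exact ⟨x, fun _ => hx⟩
  choose x hx using hx
  have hfg : ∀ z : E ⊗[K] L, ∃ T : Finset L, ∀ K' : IntermediateField K L, (T : Set L) ⊆ K' →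
      z ∈ Set.range (Algebra.TensorProduct.map (AlgHom.id K E) K'.val) := by
    intro z
    induction z using TensorProduct.induction_on with
    | zero => exact ⟨∅, fun K' _ => ⟨0, map_zero _⟩⟩
    | tmul e l =>
      exact ⟨{l}, fun K' hK' => ⟨e ⊗ₜ ⟨l, hK' (Finset.mem_singleton_self l)⟩, by simp⟩⟩
    | add a b ha hb =>
      obtain ⟨Ta, ha⟩ := ha; obtain ⟨Tb, hb⟩ := hb
      refine ⟨Ta ∪ Tb, fun K' hK' => ?_⟩
      rw [Finset.coe_union, Set.union_subset_iff] at hK'
      obtain ⟨a', rfl⟩ := ha K' hK'.1; obtain ⟨b', rfl⟩ := hb K' hK'.2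
      exact ⟨a' + b', map_add _ _ _⟩
  choose T hT using hfg
  let T0 : Finset L := (s ×ˢ s).biUnion fun PP => T (x PP)
  let K' := IntermediateField.adjoin K (T0 : Set L)
  haveI : FiniteDimensional K K' :=
    IntermediateField.finiteDimensional_adjoin fun l _ => Algebra.IsIntegral.isIntegral l
  let j := Algebra.TensorProduct.map (AlgHom.id K E) K'.val
  have hinj : Set.InjOn (fun P : Ideal (E ⊗[K] L) => P.comap j) s := by
    intro P hP P' hP' heq
    by_contra hne
    obtain ⟨y, hy⟩ := hT (x (P, P')) K' (fun l hl => IntermediateField.subset_adjoin K _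
      (Finset.mem_biUnion.mpr ⟨(P, P'), Finset.mem_product.mpr ⟨hP, hP'⟩, hl⟩))
    refine hx (P, P') hne ?_
    rw [← hy]
    exact SetLike.ext_iff.mp heq y
  have := card_primes_le_of_finite n hn K' (s.image fun P => P.comap j) (by
    intro P hP
    obtain ⟨Q, hQ, rfl⟩ := Finset.mem_image.mp hP
    haveI : Q.IsPrime := hsub hQ
    exact Ideal.IsPrime.comap _)
  rw [Finset.card_image_of_injOn hinj, hcard] at this
  omega

end Groth.L05.Milnor
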