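import Mathlib.RingTheory.Noetherian.OfPrime
import Mathlib.RingTheory.Ideal.Quotient.Noetherian
import Mathlib.RingTheory.Ideal.Maximal
import Mathlib.RingTheory.Noetherian.Basic
import Mathlib.RingTheory.Ideal.Over
import Mathlib.RingTheory.Finiteness.Ideal
import Mathlib.Tactic.LinearCombination
import Mathlib.Tactic.Ring

/-!
# A Noetherianity criterion: finite discrete reduced fibres over a Noetherian ring
-/

set_option autoImplicit false
universe u

namespace Groth.L05.Milnor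

variable {B D : Type u} [CommRing B] [CommRing D] [Algebra B D]

/-- Core step: a prime of the fibre over `P` is, after one denominator, principal modulo `P D`. -/
theorem exists_denominator (P : Ideal B) [P.IsPrime]
    (hfin : (P.primesOver D).Finite)
    (hrad : (P.map (algebraMap B D)).IsRadical)
    (hsat : ∀ (s : B) (y : D), s ∉ P → algebraMap B D s * y ∈ P.map (algebraMap B D) →
      y ∈ P.map (algebraMap B D))
    (hinc : ∀ (Q Q' : Ideal D) [Q.IsPrime] [Q'.IsPrime], Q ≤ Q' →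
      Q.under B = Q'.under B → Q = Q')
    (Q : Ideal D) [hQ : Q.IsPrime] (hQP : Q.under B = P) :
    ∃ c, c ∉ P ∧ ∃ d ∈ Q, ∀ x ∈ Q, algebraMap B D c * x ∈ Ideal.span {d} ⊔ P.map (algebraMap B D) := by
  classical
  let T := hfin.toFinset.erase Q
  have hex : ∀ J : T, ∃ x, x ∈ J.1 ∧ x ∉ Q := fun J => by
    obtain ⟨hne, hJ⟩ := Finset.mem_erase.mp J.2
    obtain ⟨hJp, hJo⟩ := hfin.mem_toFinset.mp hJ
    haveI := hJp
    have : ¬ J.1 ≤ Q := fun hle => hne (hinc J.1 Q hle (by rw [← hJo.over, hQP]))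
    exact SetLike.not_le_iff_exists.mp this
  choose a ha using hex
  let g0 : D := ∏ J : T, a J
  have hg0 : g0 ∉ Q := fun h => by
    obtain ⟨J, -, hJ⟩ := (Ideal.IsPrime.prod_mem_iff (p := Q)).mp h
    exact (ha J).2 hJ
  -- `g0` kills `Q` modulo `P D`
  have hkill : ∀ x ∈ Q, g0 * x ∈ P.map (algebraMap B D) := by
    intro x hx
    let M : Submonoid D := (P.primeCompl.map (algebraMap B D)) ⊔ Submonoid.powers (g0 * x)
    by_cases hdis : Disjoint ((P.map (algebraMap B D) : Ideal D) : Set D) M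
    · obtain ⟨J, hJ, hPJ, hJM⟩ := Ideal.exists_le_prime_disjoint _ _ hdis
      haveI := hJ
      have hJP : J.under B = P := by
        refine le_antisymm (fun b hb => ?_) (Ideal.map_le_iff_le_comap.mp hPJ)
        by_contra hbP
        exact Set.disjoint_left.mp hJM hb (SetLike.le_def.mp le_sup_left ⟨b, hbP, rfl⟩)
      refine absurd ?_ (fun h => Set.disjoint_left.mp hJM h (SetLike.le_def.mp le_sup_right (Submonoid.mem_powers _)))
      by_cases hJQ : J = Q
      · exact hJQ ▸ Q.mul_mem_left _ hx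
      · have hJT : J ∈ T := Finset.mem_erase.mpr ⟨hJQ, hfin.mem_toFinset.mpr ⟨hJ, ⟨hJP.symm⟩⟩⟩
        exact J.mul_mem_right _ (Ideal.mem_of_dvd J (Finset.dvd_prod_of_mem a (Finset.mem_univ (⟨J, hJT⟩ : T)))
          (ha ⟨J, hJT⟩).1)
    · obtain ⟨m, hmI, hmM⟩ := Set.not_disjoint_iff.mp hdis
      obtain ⟨_, ⟨s, hs, rfl⟩, _, ⟨k, rfl⟩, rfl⟩ := Submonoid.mem_sup.mp hmM
      exact hrad ⟨k, hsat s _ hs hmI⟩
  -- a unit multiple of `g0` modulo `Q` comes from `B`
  have hmeet : ∃ c, c ∉ P ∧ algebraMap B D c ∈ Ideal.span {g0} ⊔ Q := by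
    by_contra hno
    push Not at hno
    have hdis : Disjoint ((Ideal.span {g0} ⊔ Q : Ideal D) : Set D) (P.primeCompl.map (algebraMap B D) : Submonoid D) := by
      rw [Set.disjoint_left]
      rintro _ hm ⟨c, hc, rfl⟩
      exact hno c hc hm
    obtain ⟨J, hJ, hQJ, hJM⟩ := Ideal.exists_le_prime_disjoint _ _ hdis
    haveI := hJ
    have hle : Q ≤ J := le_sup_right.trans hQJ
    have hJP : J.under B = P := by
      refine le_antisymm (fun b hb => ?_) (hQP ▸ Ideal.comap_mono hle)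
      by_contra hbP
      exact Set.disjoint_left.mp hJM hb ⟨b, hbP, rfl⟩
    have := hinc Q J hle (hQP.trans hJP.symm)
    exact hg0 (this ▸ hQJ (Ideal.mem_sup_left (Ideal.mem_span_singleton_self g0)))
  obtain ⟨c, hc, hmem⟩ := hmeet
  obtain ⟨z, hz, d, hd, heq⟩ := Submodule.mem_sup.mp hmem
  obtain ⟨h, rfl⟩ := Ideal.mem_span_singleton'.mp hz
  refine ⟨c, hc, d, hd, fun x hx => ?_⟩
  rw [← heq, add_mul, mul_assoc]
  exact add_mem (Ideal.mem_sup_right (Ideal.mul_mem_left _ _ (hkill x hx)))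
    (Ideal.mem_sup_left (Ideal.mem_span_singleton'.mpr ⟨x, mul_comm _ _⟩))

/-- An algebra over a Noetherian ring whose fibres are finite, discrete, reduced and saturated is Noetherian. -/
theorem isNoetherianRing_of_fibres [IsNoetherianRing B]
    (hfin : ∀ (P : Ideal B) [P.IsPrime], (P.primesOver D).Finite)
    (hrad : ∀ (P : Ideal B) [P.IsPrime], (P.map (algebraMap B D)).IsRadical)
    (hsat : ∀ (P : Ideal B) [P.IsPrime] (s : B) (y : D), s ∉ P →
      algebraMap B D s * y ∈ P.map (algebraMap B D) → y ∈ P.map (algebraMap B D))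
    (hinc : ∀ (Q Q' : Ideal D) [Q.IsPrime] [Q'.IsPrime], Q ≤ Q' →
      Q.under B = Q'.under B → Q = Q') :
    IsNoetherianRing D := by
  suffices key : ∀ P : Ideal B, P.IsPrime → ∀ Q : Ideal D, Q.IsPrime → Q.under B = P → Q.FG by
    exact IsNoetherianRing.of_prime fun Q hQ => key _ (hQ.comap _) Q hQ rfl
  intro P
  induction P using (IsWellFounded.wf (r := ((· > ·) : Ideal B → Ideal B → Prop))).induction with
  | _ P ih =>
  intro hP Q hQ hQP
  haveI := hP
  haveI := hQ
  obtain ⟨c, hc, d, hd, hcd⟩ := exists_denominator P (hfin P) (hrad P) (hsat P) hinc Q hQP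
  let J : Ideal D := Ideal.span {algebraMap B D c} ⊔ P.map (algebraMap B D)
  have hPQ : P.map (algebraMap B D) ≤ Q := Ideal.map_le_iff_le_comap.mpr hQP.ge
  have hcQ : algebraMap B D c ∉ Q := fun h => hc (hQP ▸ h)
  haveI hnoeth : IsNoetherianRing (D ⧸ J) := IsNoetherianRing.of_prime fun I hI => by
    haveI := hI
    let Q' := I.comap (Ideal.Quotient.mk J)
    have hJQ' : J ≤ Q' := fun y hy => by
      rw [Ideal.mem_comap, Ideal.Quotient.eq_zero_iff_mem.mpr hy]; exact I.zero_mem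
    have hgt : Q'.under B > P := by
      refine lt_of_le_of_ne (Ideal.map_le_iff_le_comap.mp (le_sup_right.trans hJQ')) fun h => hc ?_
      rw [h]
      exact hJQ' (Ideal.mem_sup_left (Ideal.mem_span_singleton_self _))
    have hfg : Q'.FG := ih _ hgt ((hI.comap _).comap _) Q' (hI.comap _) rfl
    have := Ideal.FG.map hfg (Ideal.Quotient.mk J)
    rwa [Ideal.map_comap_of_surjective _ Ideal.Quotient.mk_surjective] at this
  obtain ⟨S, hS⟩ := Ideal.fg_of_isNoetherianRing (Q.map (Ideal.Quotient.mk J))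
  have hpre : ∀ z : S, ∃ x ∈ Q, Ideal.Quotient.mk J x = z.1 := fun z =>
    (Ideal.mem_map_iff_of_surjective _ Ideal.Quotient.mk_surjective).mp (hS ▸ Ideal.subset_span z.2)
  choose q hq hqz using hpre
  have hfgPD : (P.map (algebraMap B D)).FG := Ideal.FG.map (Ideal.fg_of_isNoetherianRing P) _
  suffices hQeq : Q = Ideal.span (Set.range q) ⊔ Ideal.span {d} ⊔ P.map (algebraMap B D) by
    rw [hQeq]
    exact ((Submodule.fg_span (Set.finite_range q)).sup (Submodule.fg_span_singleton d)).sup hfgPD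
  refine le_antisymm (fun x hx => ?_) (sup_le (sup_le (Ideal.span_le.mpr (Set.range_subset_iff.mpr hq))
    ((Ideal.span_singleton_le_iff_mem _).mpr hd)) hPQ)
  have hx' : Ideal.Quotient.mk J x ∈ (Ideal.span (Set.range q)).map (Ideal.Quotient.mk J) := by
    have h1 : Ideal.Quotient.mk J x ∈ Ideal.span (S : Set (D ⧸ J)) := hS.ge (Ideal.mem_map_of_mem _ hx)
    refine Ideal.span_le.mpr ?_ h1
    intro z hz
    show z ∈ (Ideal.span (Set.range q)).map (Ideal.Quotient.mk J)
    rw [← show Ideal.Quotient.mk J (q ⟨z, hz⟩) = z from hqz ⟨z, hz⟩]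
    exact Ideal.mem_map_of_mem _ (Ideal.subset_span ⟨⟨z, hz⟩, rfl⟩)
  obtain ⟨y, hy, hyx⟩ := (Ideal.mem_map_iff_of_surjective _ Ideal.Quotient.mk_surjective).mp hx'
  obtain ⟨z, hz, p, hp, heq⟩ := Submodule.mem_sup.mp (Ideal.Quotient.eq.mp hyx.symm : x - y ∈ J)
  obtain ⟨w, rfl⟩ := Ideal.mem_span_singleton'.mp hz
  have hyQ : y ∈ Q := Ideal.span_le.mpr (Set.range_subset_iff.mpr hq) hy
  have hwQ : w ∈ Q := by
    refine (hQ.mem_or_mem ?_).resolve_right hcQ
    rw [show w * algebraMap B D c = x - y - p by rw [← heq]; ring]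
    exact sub_mem (sub_mem hx hyQ) (hPQ hp)
  have hx_eq : x = y + (algebraMap B D c * w + p) := by linear_combination -heq
  rw [hx_eq, sup_assoc]
  exact add_mem (Ideal.mem_sup_left hy)
    (Ideal.mem_sup_right (add_mem (hcd w hwQ) (Ideal.mem_sup_right hp)))

end Groth.L05.Milnor
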