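import Groth.Agent.L05.Milnor.Main
import Groth.Agent.L05.Henselization.Noeth

/-!
# The local homomorphism from `V` to a (strictly) henselized local ring of a finite type algebra
-/

set_option autoImplicit false
universe u

open IsLocalRing

namespace Groth.L05.Milnor

theorem isLocalHom_of_le {V A B : Type u} [CommRing V] [IsLocalRing V] [CommRing A] [Algebra V A]
    (p : Ideal A) [p.IsPrime] (hp : (maximalIdeal V).map (algebraMap V A) ≤ p)
    [CommRing B] [IsLocalRing B] [Algebra (Localization.AtPrime p) B]
    [IsLocalHom (algebraMap (Localization.AtPrime p) B)]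
    [Algebra V B] [IsScalarTower V (Localization.AtPrime p) B] : IsLocalHom (algebraMap V B) := by
  refine ⟨fun v hv => by_contra fun hnu => ?_⟩
  rw [IsScalarTower.algebraMap_apply V (Localization.AtPrime p) B] at hv
  have h := IsLocalHom.map_nonunit (f := algebraMap (Localization.AtPrime p) B) _ hv
  rw [IsScalarTower.algebraMap_apply V A (Localization.AtPrime p),
    IsLocalization.AtPrime.isUnit_to_map_iff _ p] at h
  exact h (hp (Ideal.mem_map_of_mem _ hnu))

theorem maximalIdeal_map_le {V A : Type u} [CommRing V] [IsLocalRing V] [CommRing A] [Algebra V A]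
    (m : Ideal A) [m.IsMaximal] (hm : Function.Surjective ((Ideal.Quotient.mk m).comp (algebraMap V A))) :
    (maximalIdeal V).map (algebraMap V A) ≤ m := by
  rw [Ideal.map_le_iff_le_comap]
  letI := Ideal.Quotient.field m
  have hmax : (RingHom.ker ((Ideal.Quotient.mk m).comp (algebraMap V A))).IsMaximal :=
    RingHom.ker_isMaximal_of_surjective _ hm
  rw [← IsLocalRing.eq_maximalIdeal hmax, RingHom.ker_eq_comap_bot, ← Ideal.comap_comap, ← RingHom.ker_eq_comap_bot, Ideal.mk_ker]

end Groth.L05.Milnor
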