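import Groth.Agent.L05.Milnor.Criterion
import Groth.Agent.L05.Milnor.Bound
import Groth.Agent.L05.Milnor.Count
import Groth.Agent.L03.GeomReduced2
import Mathlib.LinearAlgebra.TensorProduct.RightExactness
import Mathlib.RingTheory.Flat.TorsionFree
import Mathlib.RingTheory.Flat.Basic
import Mathlib.RingTheory.PrincipalIdealDomain

/-!
# The tensor product of a Noetherian local `V`-algebra with an algebraic extension of `Frac V` is Noetherian
-/

set_option autoImplicit false
universe u

open IsLocalRing TensorProduct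

namespace Groth.L05.Milnor

theorem residue_tensor_data {V : Type u} [CommRing V] [IsDomain V] [IsDiscreteValuationRing V]
    [HenselianLocalRing V] [IsSepClosed (ResidueField V)] [PerfectField (ResidueField V)] [CharZero V]
    (L : Type u) [Field L] [Algebra V L] [FaithfulSMul V L] [Algebra.IsAlgebraic V L]
    {B : Type u} [CommRing B] [IsNoetherianRing B] [IsLocalRing B] [Algebra V B]
    [IsLocalHom (algebraMap V B)]
    (P : Ideal B) [P.IsPrime] :
    (P.primesOver (B ⊗[V] L)).Finite ∧ (P.map (algebraMap B (B ⊗[V] L))).IsRadical ∧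
      (∀ (s : B) (y : B ⊗[V] L), s ∉ P → algebraMap B (B ⊗[V] L) s * y ∈ P.map (algebraMap B (B ⊗[V] L)) →
        y ∈ P.map (algebraMap B (B ⊗[V] L))) ∧
      ∀ (Q Q' : Ideal (B ⊗[V] L)) [Q.IsPrime] [Q'.IsPrime], Q ≤ Q' →
        Q.under B = P → Q'.under B = P → Q = Q' := by
  classical
  obtain ⟨π, hπ⟩ := IsDiscreteValuationRing.exists_irreducible V
  have hVL : Function.Injective (algebraMap V L) := FaithfulSMul.algebraMap_injective V L
  have hπL : IsUnit (algebraMap V L π) :=
    isUnit_iff_ne_zero.mpr ((map_ne_zero_iff _ hVL).mpr hπ.ne_zero)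
  by_cases hπP : algebraMap V B π ∈ P
  · have htop : P.map (algebraMap B (B ⊗[V] L)) = ⊤ := by
      refine Ideal.eq_top_of_isUnit_mem _ (Ideal.mem_map_of_mem _ hπP) ?_
      rw [← IsScalarTower.algebraMap_apply,
        show algebraMap V (B ⊗[V] L) π = (Algebra.TensorProduct.includeRight : L →ₐ[V] B ⊗[V] L) (algebraMap V L π) from
          ((Algebra.TensorProduct.includeRight : L →ₐ[V] B ⊗[V] L).commutes π).symm]
      exact hπL.map _
    have hno : ∀ Q : Ideal (B ⊗[V] L), Q.IsPrime → Q.under B = P → False := fun Q hQ hQP =>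
      hQ.ne_top (top_le_iff.mp (htop ▸ Ideal.map_le_iff_le_comap.mpr hQP.ge))
    refine ⟨Set.Finite.subset Set.finite_empty fun Q hQ => hno Q hQ.1 hQ.2.over.symm, ?_, ?_, ?_⟩
    · exact htop ▸ fun x _ => Submodule.mem_top
    · exact fun s y _ _ => htop ▸ Submodule.mem_top
    · exact fun Q Q' hQ _ _ hQP _ => (hno Q hQ hQP).elim
  let R := B ⧸ P
  let E := P.ResidueField
  haveI : IsDomain R := Ideal.Quotient.isDomain P
  have hVR : Function.Injective (algebraMap V R) := by
    refine (injective_iff_map_eq_zero _).mpr fun v hv => ?_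
    by_contra hv0
    obtain ⟨k, u, rfl⟩ := IsDiscreteValuationRing.eq_unit_mul_pow_irreducible hv0 hπ
    rw [map_mul, map_pow] at hv
    have h1 : algebraMap V R π = 0 :=
      eq_zero_of_pow_eq_zero ((u.isUnit.map (algebraMap V R)).mul_right_eq_zero.mp hv)
    exact hπP (Ideal.Quotient.eq_zero_iff_mem.mp h1)
  have hπu : ¬ IsUnit (algebraMap V R π) := fun h => by
    haveI : IsLocalHom (Ideal.Quotient.mk P) := IsLocalHom.of_surjective _ Ideal.Quotient.mk_surjective
    exact hπ.not_isUnit (IsLocalHom.map_nonunit (f := algebraMap V B) π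
      (IsLocalHom.map_nonunit (f := Ideal.Quotient.mk P) _ h))
  let K := FractionRing V
  haveI : CharZero K := charZero_of_injective_algebraMap (IsFractionRing.injective V K)
  have hVE : Function.Injective (algebraMap V E) := by
    rw [IsScalarTower.algebraMap_eq V R E]; exact (IsFractionRing.injective R E).comp hVR
  letI : Algebra K E := (IsFractionRing.lift hVE).toAlgebra
  haveI : IsScalarTower V K E :=
    IsScalarTower.of_algebraMap_eq fun v => (IsFractionRing.lift_algebraMap hVE v).symm
  letI : Algebra K L := (IsFractionRing.lift hVL).toAlgebra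
  haveI : IsScalarTower V K L :=
    IsScalarTower.of_algebraMap_eq fun v => (IsFractionRing.lift_algebraMap hVL v).symm
  haveI : Algebra.IsAlgebraic K L := Algebra.IsAlgebraic.extendScalars (IsFractionRing.injective V K)
  obtain ⟨n, hn⟩ := exists_bound (K := K) hVR hπ hπu E
  have hfinE := finite_primes_tensor n hn L
  haveI : Module.Flat V L := by
    haveI : Module.IsTorsionFree V L := Module.IsTorsionFree.trans_faithfulSMul V L L
    infer_instance
  -- the map to the fibre
  let q : B →ₐ[V] R := Ideal.Quotient.mkₐ V P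
  let jR : R →ₐ[V] E := IsScalarTower.toAlgHom V R E
  let Φ0 : B ⊗[V] L →ₐ[V] E ⊗[V] L :=
    (Algebra.TensorProduct.map jR (AlgHom.id V L)).comp (Algebra.TensorProduct.map q (AlgHom.id V L))
  haveI := IsLocalization.tensorProduct_compatibleSMul (nonZeroDivisors V) K E L
  let eqv : E ⊗[K] L ≃ₐ[E] E ⊗[V] L := Algebra.TensorProduct.equivOfCompatibleSMul V K E E L
  let Φ : B ⊗[V] L →+* E ⊗[K] L := eqv.symm.toRingHom.comp Φ0.toRingHom
  have hΦt : ∀ (b : B) (l : L), Φ (b ⊗ₜ l) = (algebraMap R E (Ideal.Quotient.mk P b)) ⊗ₜ[K] l := fun b l => by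
    show eqv.symm ((algebraMap R E (Ideal.Quotient.mk P b)) ⊗ₜ[V] l) = _
    exact eqv.injective ((eqv.apply_symm_apply _).trans rfl)
  have hker : RingHom.ker Φ = P.map (algebraMap B (B ⊗[V] L)) := by
    have h1 : RingHom.ker (Algebra.TensorProduct.map q (AlgHom.id V L)) = P.map (algebraMap B (B ⊗[V] L)) := by
      rw [Algebra.TensorProduct.rTensor_ker q Ideal.Quotient.mk_surjective]
      show (RingHom.ker (Ideal.Quotient.mk P)).map _ = _
      rw [Ideal.mk_ker]; rfl
    rw [← h1]
    ext z
    simp only [RingHom.mem_ker]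
    show eqv.symm (Φ0 z) = 0 ↔ _
    rw [map_eq_zero_iff _ eqv.symm.injective]
    exact map_eq_zero_iff (Algebra.TensorProduct.map jR (AlgHom.id V L))
      (Module.Flat.rTensor_preserves_injective_linearMap (M := L) jR.toLinearMap
        (IsFractionRing.injective R E))
  haveI hred : IsReduced (E ⊗[K] L) := Groth.L03.GeomReduced2.isReduced_tensorProduct_of_perfectField
  have hunit : ∀ s : B, s ∉ P → IsUnit (Φ (algebraMap B (B ⊗[V] L) s)) := fun s hs => by
    rw [show algebraMap B (B ⊗[V] L) s = s ⊗ₜ[V] (1 : L) from rfl, hΦt,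
      show algebraMap R E (Ideal.Quotient.mk P s) ⊗ₜ[K] (1 : L) =
        algebraMap E (E ⊗[K] L) (algebraMap R E (Ideal.Quotient.mk P s)) from rfl]
    refine IsUnit.map _ (isUnit_iff_ne_zero.mpr ((map_ne_zero_iff _ (IsFractionRing.injective R E)).mpr ?_))
    rwa [ne_eq, Ideal.Quotient.eq_zero_iff_mem]
  have hdense : ∀ z : E ⊗[K] L, ∃ s ∉ P, ∃ y, Φ (algebraMap B (B ⊗[V] L) s) * z = Φ y := by
    intro z
    induction z using TensorProduct.induction_on with
    | zero => exact ⟨1, (Ideal.ne_top_iff_one P).mp Ideal.IsPrime.ne_top', 0, by rw [mul_zero, map_zero]⟩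
    | tmul e l =>
      obtain ⟨r, d, hd, rfl⟩ := IsFractionRing.div_surjective (A := R) e
      obtain ⟨r, rfl⟩ := Ideal.Quotient.mk_surjective r
      obtain ⟨d, rfl⟩ := Ideal.Quotient.mk_surjective d
      refine ⟨d, fun h => nonZeroDivisors.ne_zero hd (Ideal.Quotient.eq_zero_iff_mem.mpr h), r ⊗ₜ l, ?_⟩
      rw [show algebraMap B (B ⊗[V] L) d = d ⊗ₜ[V] (1 : L) from rfl, hΦt, hΦt,
        Algebra.TensorProduct.tmul_mul_tmul, one_mul, mul_div_cancel₀ _
          ((map_ne_zero_iff _ (IsFractionRing.injective R E)).mpr (nonZeroDivisors.ne_zero hd))]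
    | add a b ha hb =>
      obtain ⟨s, hs, y, hy⟩ := ha; obtain ⟨s', hs', y', hy'⟩ := hb
      refine ⟨s * s', Ideal.IsPrime.mul_notMem inferInstance hs hs', algebraMap B _ s' * y + algebraMap B _ s * y', ?_⟩
      rw [map_mul, map_mul, map_add, map_mul, map_mul, ← hy, ← hy']; ring
  have hlift : ∀ Q : Ideal (B ⊗[V] L), Q.IsPrime → Q.under B = P →
      ∃ M : Ideal (E ⊗[K] L), M.IsPrime ∧ M.comap Φ = Q := by
    intro Q hQ hQP
    haveI := hQ
    haveI : Q.LiesOver P := ⟨hQP.symm⟩
    let κ := Q.ResidueField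
    let aE : E →+* κ := Ideal.ResidueField.map P Q (algebraMap B (B ⊗[V] L)) hQP.symm
    let bL : L →+* κ := (algebraMap (B ⊗[V] L) κ).comp
      (Algebra.TensorProduct.includeRight : L →ₐ[V] B ⊗[V] L).toRingHom
    letI : Algebra K κ := (aE.comp (algebraMap K E)).toAlgebra
    have hb : bL.comp (algebraMap K L) = algebraMap K κ := by
      refine IsLocalization.ringHom_ext (nonZeroDivisors V) (RingHom.ext fun v => ?_)
      show algebraMap (B ⊗[V] L) κ (Algebra.TensorProduct.includeRight (algebraMap K L (algebraMap V K v))) =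
        aE (algebraMap K E (algebraMap V K v))
      rw [← IsScalarTower.algebraMap_apply V K L, ← IsScalarTower.algebraMap_apply V K E,
        AlgHom.commutes, IsScalarTower.algebraMap_apply V B E, IsScalarTower.algebraMap_apply V B (B ⊗[V] L)]
      exact (Ideal.ResidueField.map_algebraMap P Q _ _ _).symm
    let χ : E ⊗[K] L →ₐ[K] κ :=
      Algebra.TensorProduct.lift (⟨aE, fun k => rfl⟩ : E →ₐ[K] κ)
        (⟨bL, fun k => RingHom.congr_fun hb k⟩ : L →ₐ[K] κ) fun _ _ => Commute.all _ _
    have hcomp : χ.toRingHom.comp Φ = algebraMap (B ⊗[V] L) κ := by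
      refine RingHom.ext fun z => ?_
      induction z using TensorProduct.induction_on with
      | zero => rw [map_zero, map_zero]
      | add a b ha hb => rw [map_add, map_add, ha, hb]
      | tmul b l =>
        show χ (Φ (b ⊗ₜ l)) = _
        rw [hΦt, show χ ((algebraMap R E (Ideal.Quotient.mk P b)) ⊗ₜ[K] l) = aE (algebraMap R E (Ideal.Quotient.mk P b)) * bL l from
          Algebra.TensorProduct.lift_tmul _ _ _ _ _,
          show algebraMap R E (Ideal.Quotient.mk P b) = algebraMap B E b from rfl,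
          show aE (algebraMap B E b) = algebraMap (B ⊗[V] L) κ (algebraMap B (B ⊗[V] L) b) from
            Ideal.ResidueField.map_algebraMap P Q _ _ _]
        show algebraMap (B ⊗[V] L) κ (b ⊗ₜ 1) * algebraMap (B ⊗[V] L) κ (1 ⊗ₜ l) = _
        rw [← map_mul, Algebra.TensorProduct.tmul_mul_tmul, mul_one, one_mul]
    refine ⟨RingHom.ker χ.toRingHom, RingHom.ker_isPrime _, ?_⟩
    rw [RingHom.comap_ker, hcomp, Ideal.ker_algebraMap_residueField]
  refine ⟨(hfinE.image fun M => M.comap Φ).subset fun Q hQ => ?_, ?_, ?_, ?_⟩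
  · obtain ⟨M, hM, rfl⟩ := hlift Q hQ.1 hQ.2.over.symm
    exact ⟨M, hM, rfl⟩
  · rintro y ⟨m, hm⟩
    rw [← hker, RingHom.mem_ker] at hm ⊢
    rw [map_pow] at hm
    exact IsReduced.eq_zero _ ⟨m, hm⟩
  · intro s y hs hy
    rw [← hker, RingHom.mem_ker] at hy ⊢
    rw [map_mul] at hy
    exact (hunit s hs).mul_right_eq_zero.mp hy
  · intro Q Q' hQ hQ' hle hQP hQ'P
    obtain ⟨M, hM, rfl⟩ := hlift Q hQ hQP
    obtain ⟨M', hM', rfl⟩ := hlift Q' hQ' hQ'P
    have hMM' : M ≤ M' := fun z hz => by
      obtain ⟨s, hs, y, hy⟩ := hdense z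
      have h1 : Φ y ∈ M' := hle (show Φ y ∈ M from hy ▸ M.mul_mem_left _ hz)
      rw [← hy] at h1
      exact (hM'.mem_or_mem h1).resolve_left fun h => hM'.ne_top (Ideal.eq_top_of_isUnit_mem _ h (hunit s hs))
    haveI : Algebra.IsIntegral E (E ⊗[K] L) := inferInstance
    haveI : M.IsMaximal := Ideal.isMaximal_of_isIntegral_of_isMaximal_comap (R := E) M (by
      rw [(Ideal.eq_bot_or_top (M.comap (algebraMap E (E ⊗[K] L)))).resolve_right (Ideal.comap_ne_top _ hM.ne_top)]
      exact Ideal.bot_isMaximal)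
    rw [Ideal.IsMaximal.eq_of_le ‹M.IsMaximal› hM'.ne_top hMM']

/-- The main theorem. -/
theorem isNoetherianRing_tensor {V : Type u} [CommRing V] [IsDomain V] [IsDiscreteValuationRing V]
    [HenselianLocalRing V] [IsSepClosed (ResidueField V)] [PerfectField (ResidueField V)] [CharZero V]
    (L : Type u) [Field L] [Algebra V L] [FaithfulSMul V L] [Algebra.IsAlgebraic V L]
    (B : Type u) [CommRing B] [IsNoetherianRing B] [IsLocalRing B] [Algebra V B]
    [IsLocalHom (algebraMap V B)] : IsNoetherianRing (L ⊗[V] B) := by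
  haveI : IsNoetherianRing (B ⊗[V] L) := isNoetherianRing_of_fibres (B := B)
    (fun P _ => (residue_tensor_data L P).1) (fun P _ => (residue_tensor_data L P).2.1)
    (fun P _ => (residue_tensor_data L P).2.2.1)
    (fun Q Q' _ _ hle heq => (residue_tensor_data L (Q.under B)).2.2.2 Q Q' hle rfl heq.symm)
  exact isNoetherianRing_of_ringEquiv _ (Algebra.TensorProduct.comm V B L).toRingEquiv

theorem finite_connectedComponents_tensor {V : Type u} [CommRing V] [IsDomain V] [IsDiscreteValuationRing V]
    [HenselianLocalRing V] [IsSepClosed (ResidueField V)] [PerfectField (ResidueField V)] [CharZero V]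
    (L : Type u) [Field L] [Algebra V L] [FaithfulSMul V L] [Algebra.IsAlgebraic V L]
    (B : Type u) [CommRing B] [IsNoetherianRing B] [IsLocalRing B] [Algebra V B]
    [IsLocalHom (algebraMap V B)] : Finite (ConnectedComponents (PrimeSpectrum (L ⊗[V] B))) := by
  haveI := isNoetherianRing_tensor (V := V) L B
  haveI : TopologicalSpace.NoetherianSpace (PrimeSpectrum (L ⊗[V] B)) := inferInstance
  haveI : Finite (irreducibleComponents (PrimeSpectrum (L ⊗[V] B))) :=
    TopologicalSpace.NoetherianSpace.finite_irreducibleComponents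
  refine Finite.of_surjective (fun Z : irreducibleComponents (PrimeSpectrum (L ⊗[V] B)) =>
    ConnectedComponents.mk Z.2.1.1.some) fun c => ?_
  obtain ⟨x, rfl⟩ := ConnectedComponents.surjective_coe c
  refine ⟨⟨irreducibleComponent x, irreducibleComponent_mem_irreducibleComponents x⟩, ?_⟩
  refine ConnectedComponents.coe_eq_coe'.mpr ?_
  exact (isIrreducible_irreducibleComponent.isConnected.isPreconnected.subset_connectedComponent
    mem_irreducibleComponent) (Set.Nonempty.some_mem _)

end Groth.L05.Milnor
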